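import Groth.Agent.LimMor.AmplePn
import Groth.Agent.AmpleX.Comp
import Mathlib.AlgebraicGeometry.Morphisms.Proper

/-!
# Embeddings into projective space over a base with an ample module
-/

universe u

open CategoryTheory CategoryTheory.Limits AlgebraicGeometry TopologicalSpace Opposite

set_option backward.isDefEq.respectTransparency false
set_option backward.isDefEq.respectTransparency.types false

namespace Groth.Agent.RelPC13.ProjEmb

open Groth.Agent

variable {X S : Scheme.{u}}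

theorem isProper_toBase (n : ℕ) (S : Scheme.{u}) : IsProper (CohB1.ProjSpaceOver.toBase n S) :=
  MorphismProperty.pullback_snd _ _ (PnCoh.Chow.isProper_toSpec n _)

theorem exists_isAmple_of_isRelAmple (hS : ∃ N : S.Modules, CohB1.IsAmple N) (f : X ⟶ S) {L : X.Modules}
    (hL : RelAmple.IsRelAmple f L) : ∃ M : X.Modules, CohB1.IsAmple M := by
  obtain ⟨N, hN⟩ := hS
  haveI := hN.2.1
  haveI := hL.1
  let t := specULiftZIsTerminal.from S
  haveI : QuasiCompact t := quasiCompact_of_compactSpace t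
  obtain ⟨n₀, -, h⟩ := AmpleX.eventually_isRelAmple_comp f t hL ((AmpleX.isRelAmple_iff_isAmple t N).2 hN)
  haveI := (h n₀ le_rfl).1
  exact ⟨_, (AmpleX.isRelAmple_iff_isAmple (f ≫ t) _).1 (h n₀ le_rfl)⟩

theorem isRelAmple_of_isAmple (hS : ∃ N : S.Modules, CohB1.IsAmple N) (f : X ⟶ S) {L : X.Modules}
    (hL : CohB1.IsAmple L) : RelAmple.IsRelAmple f L := by
  obtain ⟨N, hN⟩ := hS
  haveI := hN.2.1
  haveI := hL.2.1
  haveI : S.IsSeparated := AmpleX.isSeparated_of_isAmple hN
  let t := specULiftZIsTerminal.from S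
  haveI : QuasiCompact (f ≫ t) := quasiCompact_of_compactSpace _
  haveI : QuasiCompact f := QuasiCompact.of_comp f t
  exact AmpleX.isRelAmple_of_comp t ((AmpleX.isRelAmple_iff_isAmple (f ≫ t) L).2 hL)

theorem qc_immersion_iff (hS : ∃ N : S.Modules, CohB1.IsAmple N) (f : X ⟶ S) :
    (∃ (n : ℕ) (i : X ⟶ CohB1.ProjSpaceOver n S), IsImmersion i ∧ QuasiCompact i ∧
        i ≫ CohB1.ProjSpaceOver.toBase n S = f) ↔
      (LocallyOfFiniteType f ∧ QuasiCompact f ∧ ∃ L : X.Modules, CohB1.IsAmple L) := by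
  constructor
  · rintro ⟨n, i, hi, hqc, rfl⟩
    haveI := hi
    haveI := hqc
    haveI := isProper_toBase n S
    exact ⟨inferInstance, inferInstance, exists_isAmple_of_isRelAmple hS _
      (AmpleX.isRelAmple_pullback_embedding _ i i.isEmbedding (Ega2Va.isRelAmple_twistOver n S))⟩
  · rintro ⟨hft, hqc, L, hL⟩
    haveI := hft
    haveI := hqc
    haveI := hL.2.1
    obtain ⟨m, -, n, i, hi, hif, -⟩ := LimMor.exists_pow_veryAmple' f hL
    haveI := isProper_toBase n S
    haveI : QuasiCompact (i ≫ CohB1.ProjSpaceOver.toBase n S) := by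
      rw [show i ≫ CohB1.ProjSpaceOver.toBase n S = f from hif]; infer_instance
    exact ⟨n, i, hi, QuasiCompact.of_comp i (CohB1.ProjSpaceOver.toBase n S), hif⟩

theorem closed_immersion_iff (hS : ∃ N : S.Modules, CohB1.IsAmple N) (f : X ⟶ S) :
    ((∃ (n : ℕ) (i : X ⟶ CohB1.ProjSpaceOver n S), IsClosedImmersion i ∧ i ≫ CohB1.ProjSpaceOver.toBase n S = f) ↔
      (IsProper f ∧ ∃ L : X.Modules, CohB1.IsAmple L)) ∧
    ((IsProper f ∧ ∃ L : X.Modules, CohB1.IsAmple L) ↔ (IsProper f ∧ ∃ L : X.Modules, RelAmple.IsRelAmple f L)) := by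
  refine ⟨⟨?_, ?_⟩, and_congr_right fun _ =>
    ⟨fun ⟨L, hL⟩ => ⟨L, isRelAmple_of_isAmple hS f hL⟩, fun ⟨L, hL⟩ => exists_isAmple_of_isRelAmple hS f hL⟩⟩
  · rintro ⟨n, i, hi, rfl⟩
    haveI := hi
    haveI := isProper_toBase n S
    exact ⟨inferInstance, exists_isAmple_of_isRelAmple hS _
      (AmpleX.isRelAmple_pullback_embedding _ i i.isEmbedding (Ega2Va.isRelAmple_twistOver n S))⟩
  · rintro ⟨hp, hA⟩
    haveI := hp
    obtain ⟨n, i, hi, -, hif⟩ := (qc_immersion_iff hS f).2 ⟨inferInstance, inferInstance, hA⟩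
    haveI := hi
    haveI := isProper_toBase n S
    haveI : IsProper (i ≫ CohB1.ProjSpaceOver.toBase n S) := hif.symm ▸ hp
    haveI : IsProper i := IsProper.of_comp i (CohB1.ProjSpaceOver.toBase n S)
    exact ⟨n, i, IsClosedImmersion.of_isPreimmersion _ i.isClosedMap.isClosed_range, hif⟩

end Groth.Agent.RelPC13.ProjEmb
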